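import Cfsg.Prelude.Def_Blocks
import Cfsg.Agent.Char.JordanBound
import Cfsg.Agent.Char.GaloisTwist
import Cfsg.Agent.GlaubermanCorr.Step
import Cfsg.Agent.Char.Linear
import Mathlib.FieldTheory.PrimitiveElement
import Mathlib.FieldTheory.IntermediateField.Adjoin.Basic
import Mathlib.RingTheory.IntegralDomain
import Mathlib.RingTheory.ZMod.UnitsCyclic
import Mathlib.Data.Nat.Choose.Factorization

/-!
# The order of a group of prime power order, the degree and the field of a faithful character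
-/

set_option autoImplicit false
set_option linter.unusedSectionVars false
set_option linter.style.haveILetI false

namespace CfsgLib.FieldDegreeBound

open Finset CfsgLib.Char

theorem exponent_le {p : ℕ} (hp : 1 < p) {e t c : ℕ} (hc : 0 < c)
    (h : (p - 1) * p ^ (e - 1) ≤ c * ((p - 1) * p ^ t)) : e ≤ (t + 1) * c := by
  rcases Nat.lt_or_ge (t + 1) e with h1 | h1
  · obtain ⟨j, rfl⟩ : ∃ j, e = t + 1 + j := ⟨e - (t + 1), by omega⟩
    rw [show t + 1 + j - 1 = t + j by omega, pow_add] at h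
    have h2 : p ^ j ≤ c := by
      have hpos : 0 < (p - 1) * p ^ t := Nat.mul_pos (by omega) (pow_pos (by omega) t)
      refine Nat.le_of_mul_le_mul_left ?_ hpos
      calc (p - 1) * p ^ t * p ^ j = (p - 1) * (p ^ t * p ^ j) := mul_assoc _ _ _
        _ ≤ c * ((p - 1) * p ^ t) := h
        _ = _ := mul_comm _ _
    have h3 : j + 1 ≤ c := (Nat.lt_pow_self hp).trans_le h2
    nlinarith
  · nlinarith

/-- An abelian group of prime power exponent with a faithful character of small field. -/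
theorem card_le_of_abelian {B : Type*} [Group B] [Finite B] {p : ℕ} [hp : Fact p.Prime] {a t : ℕ}
    (hab : ∀ x y : B, x * y = y * x) (hexp : ∀ b : B, b ^ p ^ a = 1) {χ : B → ℂ}
    (hχ : Cfsg.IsCharacter B χ) (hfaith : ∀ b, χ b = χ 1 → b = 1) {f : ℕ} (hf : χ 1 = f)
    (S : Subgroup (ZMod (p ^ a))ˣ) (hS : ∀ u ∈ S, ∀ b, χ (b ^ (u : ZMod (p ^ a)).val) = χ b)
    (hSi : S.index ≤ (p - 1) * p ^ t) : Nat.card B ≤ p ^ ((t + 1) * f) := by
  classical
  haveI := Fintype.ofFinite B
  haveI : NeZero (p ^ a) := ⟨pow_ne_zero _ hp.out.ne_zero⟩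
  obtain ⟨Λ, hΛ⟩ : ∃ Λ, (irrFinset B).filter (fun ψ => Cfsg.classInner χ ψ ≠ 0) = Λ := ⟨_, rfl⟩
  have hlin : ∀ ψ : B → ℂ, Cfsg.IsIrrCharacter B ψ → ∃ lam : B →* ℂˣ, ψ = fun b => (lam b : ℂ) :=
    fun ψ hψ => IsCharacter.exists_hom (IsIrrCharacter.isCharacter hψ) (abelian_iff_degree_one.1 hab ψ hψ)
  choose! lam hlam using hlin
  have hΛirr : ∀ ψ ∈ Λ, Cfsg.IsIrrCharacter B ψ := fun ψ hψ => by
    rw [← hΛ] at hψ; exact mem_irrFinset.1 (mem_filter.1 hψ).1
  have hexpand : χ = ∑ ψ ∈ Λ, Cfsg.classInner χ ψ • ψ := by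
    conv_lhs => rw [eq_sum_irr (IsCharacter.isClassFunction hχ)]
    rw [← hΛ]
    refine (sum_subset (filter_subset _ _) fun ψ hψ hn => ?_).symm
    rw [mem_filter, not_and, not_not] at hn
    rw [hn hψ, zero_smul]
  have hcard : Λ.card ≤ f := by
    choose! m hm using fun (ψ : B → ℂ) (hψ : ψ ∈ irrFinset B) =>
      IsCharacter.exists_classInner_eq_natCast hχ (mem_irrFinset.1 hψ)
    have hsub : Λ ⊆ irrFinset B := hΛ ▸ filter_subset _ _
    have h := congrFun hexpand 1
    rw [Finset.sum_apply, sum_congr rfl fun ψ hψ => by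
      rw [Pi.smul_apply, hm ψ (hsub hψ), congrFun (hlam ψ (hΛirr ψ hψ)) 1, map_one, Units.val_one,
        smul_eq_mul, mul_one], ← Nat.cast_sum, hf, Nat.cast_inj] at h
    rw [h, card_eq_sum_ones]
    refine sum_le_sum fun ψ hψ => Nat.one_le_iff_ne_zero.2 fun h0 => ?_
    have h1 := hψ
    rw [← hΛ, mem_filter, hm ψ (hsub hψ), h0] at h1
    exact h1.2 Nat.cast_zero
  -- twisting
  have hpw : ∀ (u v : (ZMod (p ^ a))ˣ) (b : B),
      (b ^ (u : ZMod (p ^ a)).val) ^ (v : ZMod (p ^ a)).val = b ^ ((u * v : (ZMod (p ^ a))ˣ) : ZMod (p ^ a)).val := by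
    intro u v b
    rw [← pow_mul, Units.val_mul, ZMod.val_mul]
    exact pow_eq_pow_mod _ (hexp b)
  obtain ⟨tw, htw⟩ : ∃ tw : (ZMod (p ^ a))ˣ → (B → ℂ) → B → ℂ,
      ∀ u ψ b, tw u ψ b = ψ (b ^ (u : ZMod (p ^ a)).val) := ⟨_, fun _ _ _ => rfl⟩
  have htwΛ : ∀ u ∈ S, ∀ ψ ∈ Λ, tw u ψ ∈ Λ := by
    intro u hu ψ hψ
    obtain ⟨e, he⟩ : ∃ e : B ≃* B, ∀ b, e b = b ^ (u : ZMod (p ^ a)).val := by
      haveI : IsMulCommutative B := ⟨⟨hab⟩⟩
      refine ⟨{ toFun := fun b => b ^ (u : ZMod (p ^ a)).val,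
                invFun := fun b => b ^ ((u⁻¹ : (ZMod (p ^ a))ˣ) : ZMod (p ^ a)).val,
                left_inv := fun b => ?_, right_inv := fun b => ?_,
                map_mul' := fun x y => (show Commute x y from hab x y).mul_pow _ }, fun _ => rfl⟩
      · show (b ^ _) ^ _ = b
        rw [hpw, mul_inv_cancel, Units.val_one]
        rcases Nat.lt_or_ge 1 (p ^ a) with h | h
        · haveI : Fact (1 < p ^ a) := ⟨h⟩
          rw [ZMod.val_one, pow_one]
        · have := hexp b
          rw [show p ^ a = 1 from le_antisymm h (pow_pos hp.out.pos a), pow_one] at this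
          rw [this, one_pow]
      · show (b ^ _) ^ _ = b
        rw [hpw, inv_mul_cancel, Units.val_one]
        rcases Nat.lt_or_ge 1 (p ^ a) with h | h
        · haveI : Fact (1 < p ^ a) := ⟨h⟩
          rw [ZMod.val_one, pow_one]
        · have := hexp b
          rw [show p ^ a = 1 from le_antisymm h (pow_pos hp.out.pos a), pow_one] at this
          rw [this, one_pow]
    have hψe : tw u ψ = fun b => ((lam ψ).comp e.toMonoidHom b : ℂ) := funext fun b => by
      rw [htw, ← he]; exact congrFun (hlam ψ (hΛirr ψ hψ)) (e b)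
    rw [← hΛ, mem_filter]
    refine ⟨mem_irrFinset.2 (hψe ▸ isIrrCharacter_ofHom _), ?_⟩
    have h1 : Cfsg.classInner χ (tw u ψ) = Cfsg.classInner χ ψ := by
      rw [← CfsgLib.GlaubermanCorr.classInner_comp_equiv e χ ψ]
      congr 1
      · funext b; rw [he, hS u hu]
      · funext b; rw [htw, he]
    rw [h1]
    rw [← hΛ] at hψ
    exact (mem_filter.1 hψ).2
  have key : ∀ T : Finset (B → ℂ), T ⊆ Λ → (∀ u ∈ S, ∀ ψ ∈ T, tw u ψ ∈ T) →
      (T.inf fun ψ => (lam ψ).ker).index ≤ p ^ ((t + 1) * T.card) := by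
    intro T
    induction T using Finset.strongInduction with
    | _ T ih =>
      intro hTΛ hTinv
      rcases T.eq_empty_or_nonempty with rfl | ⟨ψ, hψ⟩
      · simp
      have hψi := hΛirr ψ (hTΛ hψ)
      obtain ⟨O, hO⟩ : ∃ O, (Finset.univ : Finset S).image (fun u : S => tw (u : (ZMod (p ^ a))ˣ) ψ) = O := ⟨_, rfl⟩
      have hOT : O ⊆ T := by
        intro φ hφ
        rw [← hO] at hφ
        obtain ⟨u, -, rfl⟩ := Finset.mem_image.1 hφ
        exact hTinv u u.2 ψ hψ
      have htwone : tw 1 ψ = ψ := by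
        funext b
        rw [htw, Units.val_one]
        rcases Nat.lt_or_ge 1 (p ^ a) with h | h
        · haveI : Fact (1 < p ^ a) := ⟨h⟩
          rw [ZMod.val_one, pow_one]
        · have := hexp b
          rw [show p ^ a = 1 from le_antisymm h (pow_pos hp.out.pos a), pow_one] at this
          rw [this, one_pow]
      have hψO : ψ ∈ O := hO ▸ Finset.mem_image.2 ⟨1, Finset.mem_univ _, htwone⟩
      have hcomp : ∀ u v : (ZMod (p ^ a))ˣ, tw u (tw v ψ) = tw (u * v) ψ := fun u v => by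
        funext b; rw [htw, htw, htw, hpw]
      have hrest : ∀ u ∈ S, ∀ φ ∈ T \ O, tw u φ ∈ T \ O := by
        intro u hu φ hφ
        rw [mem_sdiff] at hφ ⊢
        refine ⟨hTinv u hu φ hφ.1, fun hmem => hφ.2 ?_⟩
        rw [← hO] at hmem ⊢
        obtain ⟨v, -, hv⟩ := Finset.mem_image.1 hmem
        refine Finset.mem_image.2 ⟨⟨u⁻¹ * v, mul_mem (inv_mem hu) v.2⟩, Finset.mem_univ _, ?_⟩
        show tw (u⁻¹ * (v : (ZMod (p ^ a))ˣ)) ψ = φ
        rw [← hcomp, hv]
        funext b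
        rw [htw, htw, hpw, inv_mul_cancel, Units.val_one]
        rcases Nat.lt_or_ge 1 (p ^ a) with h | h
        · haveI : Fact (1 < p ^ a) := ⟨h⟩
          rw [ZMod.val_one, pow_one]
        · have := hexp b
          rw [show p ^ a = 1 from le_antisymm h (pow_pos hp.out.pos a), pow_one] at this
          rw [this, one_pow]
      have hIH := ih (T \ O) (sdiff_ssubset hOT ⟨ψ, hψO⟩) (sdiff_subset.trans hTΛ) hrest
      -- the kernel of `ψ`
      haveI : Finite (lam ψ).range := Finite.of_surjective _ (lam ψ).rangeRestrict_surjective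
      haveI : IsCyclic (lam ψ).range := inferInstance
      obtain ⟨z, hz⟩ := IsCyclic.exists_ofOrder_eq_natCard (α := (lam ψ).range)
      obtain ⟨b, hb⟩ := z.2
      have hidx : (lam ψ).ker.index = orderOf (lam ψ b) := by
        rw [Subgroup.index_ker, ← hz, hb, Subgroup.orderOf_coe]
      obtain ⟨e, hea, he⟩ := (Nat.dvd_prime_pow hp.out).1
        (orderOf_dvd_of_pow_eq_one (show (lam ψ b) ^ p ^ a = 1 by rw [← map_pow, hexp, map_one]))
      haveI : NeZero (p ^ e) := ⟨pow_ne_zero _ hp.out.ne_zero⟩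
      obtain ⟨π, hπ⟩ : ∃ π, ZMod.unitsMap (pow_dvd_pow p hea) = π := ⟨_, rfl⟩
      have hwu : ∀ u : (ZMod (p ^ a))ˣ,
          ((π u : (ZMod (p ^ e))ˣ) : ZMod (p ^ e)).val = (u : ZMod (p ^ a)).val % p ^ e := fun u => by
        rw [← hπ, ZMod.unitsMap_val, ← ZMod.natCast_val, ZMod.val_natCast]
      have hle1 : Nat.card (S.map π) ≤ O.card := by
        obtain ⟨j, hj⟩ : ∃ j : S.map π → ℂ,
            ∀ w, j w = ψ b ^ (((w : (ZMod (p ^ e))ˣ) : ZMod (p ^ e))).val := ⟨_, fun _ => rfl⟩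
        have hjinj : Function.Injective j := by
          intro w w' hww
          rw [hj, hj, congrFun (hlam ψ hψi) b] at hww
          have h : lam ψ b ^ (((w : (ZMod (p ^ e))ˣ) : ZMod (p ^ e))).val =
              lam ψ b ^ (((w' : (ZMod (p ^ e))ˣ) : ZMod (p ^ e))).val := Units.ext (by simpa using hww)
          rw [pow_eq_pow_iff_modEq, he] at h
          refine Subtype.ext (Units.ext (ZMod.val_injective _ ?_))
          exact h.eq_of_lt_of_lt (ZMod.val_lt _) (ZMod.val_lt _)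
        haveI := Fintype.ofFinite (S.map π)
        rw [Nat.card_eq_fintype_card, ← card_univ, ← card_image_of_injective _ hjinj]
        refine (card_le_card (t := O.image fun φ => φ b) ?_).trans card_image_le
        intro v hv
        obtain ⟨w, -, rfl⟩ := Finset.mem_image.1 hv
        obtain ⟨u, hu, huw⟩ := w.2
        refine Finset.mem_image.2 ⟨tw u ψ, hO ▸ Finset.mem_image.2 ⟨⟨u, hu⟩, Finset.mem_univ _, rfl⟩, ?_⟩
        rw [hj, ← huw, hwu, htw, congrFun (hlam ψ hψi) b, congrFun (hlam ψ hψi) (b ^ _), map_pow,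
          ← Units.val_pow_eq_pow_val, ← he, pow_mod_orderOf]
      have hexp' : e ≤ (t + 1) * O.card := by
        refine exponent_le hp.out.one_lt (card_pos.2 ⟨ψ, hψO⟩) ?_
        rcases Nat.eq_zero_or_pos e with h0 | h0
        · subst h0
          simp only [Nat.zero_sub, pow_zero, mul_one]
          calc p - 1 ≤ (p - 1) * p ^ t := Nat.le_mul_of_pos_right _ (pow_pos hp.out.pos t)
            _ ≤ _ := Nat.le_mul_of_pos_left _ (card_pos.2 ⟨ψ, hψO⟩)
        have htot := (S.map π).card_mul_index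
        rw [Nat.card_eq_fintype_card (α := (ZMod (p ^ e))ˣ), ZMod.card_units_eq_totient,
          Nat.totient_prime_pow hp.out h0] at htot
        rw [mul_comm (p - 1), ← htot]
        refine Nat.mul_le_mul hle1 ((Nat.le_of_dvd ?_ (S.index_map_dvd ?_)).trans hSi)
        · exact Nat.pos_of_ne_zero Subgroup.index_ne_zero_of_finite
        · exact hπ ▸ ZMod.unitsMap_surjective _
      have hOker : (lam ψ).ker ≤ O.inf fun φ => (lam φ).ker := by
        refine Finset.le_inf fun φ hφ x hx => ?_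
        rw [MonoidHom.mem_ker] at hx ⊢
        have hφi := hΛirr φ (hTΛ (hOT hφ))
        rw [← hO] at hφ
        obtain ⟨u, -, rfl⟩ := Finset.mem_image.1 hφ
        refine Units.ext ?_
        rw [← congrFun (hlam _ hφi) x, htw, congrFun (hlam ψ hψi), map_pow, hx, one_pow]
      rw [← union_sdiff_of_subset hOT, inf_union]
      refine Subgroup.index_inf_le.trans ?_
      rw [card_union_of_disjoint disjoint_sdiff, mul_add, pow_add]
      refine Nat.mul_le_mul ?_ hIH
      refine (Nat.le_of_dvd (Nat.pos_of_ne_zero Subgroup.index_ne_zero_of_finite)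
        (Subgroup.index_dvd_of_le hOker)).trans ?_
      rw [hidx, he]
      exact Nat.pow_le_pow_right hp.out.pos hexp'
  have hbot : (Λ.inf fun ψ => (lam ψ).ker) = ⊥ := by
    refine (Subgroup.eq_bot_iff_forall _).2 fun b hb => hfaith b ?_
    rw [hexpand, Finset.sum_apply, Finset.sum_apply]
    refine sum_congr rfl fun ψ hψ => ?_
    have hb' : b ∈ (lam ψ).ker := (Finset.inf_le (f := fun ψ => (lam ψ).ker) hψ) hb
    rw [MonoidHom.mem_ker] at hb'
    rw [Pi.smul_apply, Pi.smul_apply, congrFun (hlam ψ (hΛirr ψ hψ)) b,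
      congrFun (hlam ψ (hΛirr ψ hψ)) 1, hb', map_one]
  have h := key Λ subset_rfl htwΛ
  rw [hbot, Subgroup.index_bot] at h
  exact h.trans (Nat.pow_le_pow_right hp.out.pos (Nat.mul_le_mul_left _ hcard))

theorem exponent_bound {P : Type*} [Group P] [Finite P] {p a : ℕ} [hp : Fact p.Prime]
    (hP : Nat.card P = p ^ a) {χ : P → ℂ} (hχ : Cfsg.IsCharacter P χ)
    (hfaith : ∀ g, χ g = χ 1 → g = 1) {f t : ℕ} (hf : χ 1 = f)
    (hfield : Module.finrank ℚ (IntermediateField.adjoin ℚ (Set.range χ)) = (p - 1) * p ^ t) :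
    (p - 1) * a ≤ (f - 1) + (p - 1) * (t + 1) * f := by
  classical
  haveI := Fintype.ofFinite P
  haveI : NeZero (p ^ a) := ⟨pow_ne_zero _ hp.out.ne_zero⟩
  haveI : Group.IsNilpotent P := (IsPGroup.of_card hP).isNilpotent
  obtain ⟨B, hBab, hBidx⟩ := CfsgLib.Char.JordanBound.exists_abelian_index_dvd_factorial hχ hfaith hf
  have hexp : ∀ g : P, g ^ p ^ a = 1 := fun g => hP ▸ pow_card_eq_one'
  -- the stabiliser of the values
  obtain ⟨K, hK⟩ : ∃ K, IntermediateField.adjoin ℚ (Set.range χ) = K := ⟨_, rfl⟩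
  rw [hK] at hfield
  haveI : FiniteDimensional ℚ K := Module.finite_of_finrank_pos (by
    rw [hfield]; exact Nat.mul_pos (by have := hp.out.one_lt; omega) (pow_pos hp.out.pos t))
  have hσex : ∀ u : (ZMod (p ^ a))ˣ, ∃ σ : ℂ ≃+* ℂ, ∀ g, σ (χ g) = χ (g ^ (u : ZMod (p ^ a)).val) := by
    intro u
    obtain ⟨σ, hσ⟩ := exists_ringEquiv_pow (pow_pos hp.out.pos a) (ZMod.val_coe_unit_coprime u)
    refine ⟨σ, fun g => IsCharacter.map_ringEquiv_eq_pow hχ σ fun z hz => hσ z ?_⟩
    obtain ⟨c, hc⟩ := orderOf_dvd_of_pow_eq_one (hexp g)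
    rw [hc, pow_mul, hz, one_pow]
  choose σ hσ using hσex
  have hpw : ∀ (u v : (ZMod (p ^ a))ˣ) (b : P),
      (b ^ (u : ZMod (p ^ a)).val) ^ (v : ZMod (p ^ a)).val = b ^ ((u * v : (ZMod (p ^ a))ˣ) : ZMod (p ^ a)).val := by
    intro u v b
    rw [← pow_mul, Units.val_mul, ZMod.val_mul]
    exact pow_eq_pow_mod _ (hexp b)
  have hone : ∀ b : P, b ^ (((1 : (ZMod (p ^ a))ˣ)) : ZMod (p ^ a)).val = b := fun b => by
    rw [Units.val_one]
    rcases Nat.lt_or_ge 1 (p ^ a) with h | h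
    · haveI : Fact (1 < p ^ a) := ⟨h⟩
      rw [ZMod.val_one, pow_one]
    · have := hexp b
      rw [show p ^ a = 1 from le_antisymm h (pow_pos hp.out.pos a), pow_one] at this
      rw [this, one_pow]
  obtain ⟨S, hS⟩ : ∃ S : Subgroup (ZMod (p ^ a))ˣ, ∀ u, u ∈ S ↔ ∀ g, χ (g ^ (u : ZMod (p ^ a)).val) = χ g := by
    refine ⟨{ carrier := {u | ∀ g, χ (g ^ (u : ZMod (p ^ a)).val) = χ g}, mul_mem' := ?_, one_mem' := ?_,
              inv_mem' := ?_ }, fun u => Iff.rfl⟩
    · intro u v hu hv g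
      rw [← hpw, hv, hu]
    · exact fun g => by rw [hone]
    · intro u hu g
      rw [← hu (g ^ ((u⁻¹ : (ZMod (p ^ a))ˣ) : ZMod (p ^ a)).val), hpw, inv_mul_cancel, hone]
  obtain ⟨E, hE⟩ : ∃ E : (ZMod (p ^ a))ˣ ⧸ S → (K →ₐ[ℚ] ℂ),
      ∀ q x, E q x = σ q.out x :=
    ⟨fun q => (σ q.out).toRingHom.toRatAlgHom.comp K.val, fun _ _ => rfl⟩
  have hEinj : Function.Injective E := by
    intro q q' hqq
    rw [← QuotientGroup.out_eq' q, ← QuotientGroup.out_eq' q', QuotientGroup.eq, hS]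
    intro g
    have h := DFunLike.congr_fun hqq
      ⟨χ (g ^ (((q.out)⁻¹ : (ZMod (p ^ a))ˣ) : ZMod (p ^ a)).val),
        hK ▸ IntermediateField.subset_adjoin ℚ _ ⟨_, rfl⟩⟩
    rw [hE, hE, hσ, hσ, hpw, hpw, inv_mul_cancel, hone] at h
    exact h.symm
  have hSi : S.index ≤ (p - 1) * p ^ t := by
    rw [← hfield, ← AlgHom.card ℚ K ℂ, Subgroup.index_eq_card, ← Nat.card_eq_fintype_card]
    exact Nat.card_le_card_of_injective E hEinj
  have hBcard : Nat.card B ≤ p ^ ((t + 1) * f) :=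
    card_le_of_abelian (a := a) (fun x y => Subtype.ext (hBab x x.2 y y.2))
      (fun b => Subtype.ext (by simpa using hexp b))
      (IsCharacter.restrict hχ B) (fun b hb => Subtype.ext (hfaith _ hb)) hf S
      (fun u hu b => by
        show χ ((b ^ _ : B) : P) = χ b
        rw [SubgroupClass.coe_pow]; exact (hS u).1 hu _) hSi
  obtain ⟨i, -, hi⟩ := (Nat.dvd_prime_pow hp.out).1 (hP ▸ B.index_dvd_card)
  obtain ⟨c, -, hc⟩ := (Nat.dvd_prime_pow hp.out).1 (hP ▸ B.card_subgroup_dvd_card)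
  have hmul := B.card_mul_index
  rw [hi, hc, hP, ← pow_add] at hmul
  have hac : c + i = a := Nat.pow_right_injective hp.out.two_le hmul
  rw [hc] at hBcard
  have hcf : c ≤ (t + 1) * f := (Nat.pow_le_pow_iff_right hp.out.one_lt).1 hBcard
  have hif : (p - 1) * i ≤ f - 1 := by
    have h1 : i ≤ (Nat.factorial f).factorization p :=
      (hp.out.pow_dvd_iff_le_factorization (Nat.factorial_ne_zero f)).1 (hi ▸ hBidx)
    refine (Nat.mul_le_mul_left _ h1).trans ?_
    rw [Nat.sub_one_mul_factorization_factorial hp.out]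
    rcases Nat.eq_zero_or_pos f with h0 | h0
    · omega
    · have h2 : 1 ≤ (p.digits f).sum := by
        by_contra hcon
        have hz : (p.digits f).sum = 0 := by omega
        have hlast := Nat.getLast_digit_ne_zero p (m := f) (by omega)
        exact hlast (List.sum_eq_zero_iff.1 hz _ (List.getLast_mem _))
      omega
  calc (p - 1) * a = (p - 1) * i + (p - 1) * c := by rw [← hac]; ring
    _ ≤ (f - 1) + (p - 1) * ((t + 1) * f) := Nat.add_le_add hif (Nat.mul_le_mul_left _ hcf)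
    _ = _ := by ring

end CfsgLib.FieldDegreeBound
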